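import Cfsg.Agent.Lib.Cert.Co2s.S2D

set_option autoImplicit false
set_option maxRecDepth 100000

namespace Cfsg.Agent.Ct.Co2s.S2

open Cfsg.Agent.PC

theorem rb40 : Nat.beq (rng f2 (nat_lit 40) (nat_lit 39)) (nat_lit 0) = true := by decide +kernel
theorem rb79 : Nat.beq (rng f2 (nat_lit 79) (nat_lit 37)) (nat_lit 0) = true := by decide +kernel
theorem rb116 : Nat.beq (rng f2 (nat_lit 116) (nat_lit 34)) (nat_lit 0) = true := by decide +kernel
theorem rb150 : Nat.beq (rng f2 (nat_lit 150) (nat_lit 28)) (nat_lit 0) = true := by decide +kernel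
theorem rb178 : Nat.beq (rng f2 (nat_lit 178) (nat_lit 18)) (nat_lit 0) = true := by decide +kernel
theorem rb196 : Nat.beq (rng f2 (nat_lit 196) (nat_lit 6)) (nat_lit 0) = true := by decide +kernel

end Cfsg.Agent.Ct.Co2s.S2
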