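import Cfsg.Agent.Lib.Cert.Co2s.S2D

set_option autoImplicit false
set_option maxRecDepth 100000

namespace Cfsg.Agent.Ct.Co2s.S2

open Cfsg.Agent.PC

theorem rc0 : Nat.beq (rng f3 (nat_lit 0) (nat_lit 15)) (nat_lit 0) = true := by decide +kernel
theorem rc15 : Nat.beq (rng f3 (nat_lit 15) (nat_lit 3)) (nat_lit 0) = true := by decide +kernel
theorem rd0 : Nat.beq (rng f4 (nat_lit 0) (nat_lit 18)) (nat_lit 0) = true := by decide +kernel

end Cfsg.Agent.Ct.Co2s.S2
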