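import Cfsg.Agent.Lib.Cert.Co2s.S2R0
import Cfsg.Agent.Lib.Cert.Co2s.S2R1
import Cfsg.Agent.Lib.Cert.Co2s.S2R2

set_option autoImplicit false
set_option maxRecDepth 100000

namespace Cfsg.Agent.Ct.Co2s.S2

open Cfsg.Agent.PC

open Cfsg.Agent.Fi Cfsg.Agent.Ct
theorem h1 : ∀ i < 241, f1 i = 0 := by
  have h := zero_lt_zero f1
  have h := zero_lt_add (a := (nat_lit 0)) (n := (nat_lit 77)) (b := (nat_lit 77)) h ra0 rfl
  have h := zero_lt_add (a := (nat_lit 77)) (n := (nat_lit 56)) (b := (nat_lit 133)) h ra77 rfl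
  have h := zero_lt_add (a := (nat_lit 133)) (n := (nat_lit 47)) (b := (nat_lit 180)) h ra133 rfl
  have h := zero_lt_add (a := (nat_lit 180)) (n := (nat_lit 36)) (b := (nat_lit 216)) h ra180 rfl
  have h := zero_lt_add (a := (nat_lit 216)) (n := (nat_lit 25)) (b := (nat_lit 241)) h ra216 rfl
  exact h
theorem h2 : ∀ i < 202, f2 i = 0 := by
  have h := zero_lt_zero f2
  have h := zero_lt_add (a := (nat_lit 0)) (n := (nat_lit 40)) (b := (nat_lit 40)) h rb0 rfl
  have h := zero_lt_add (a := (nat_lit 40)) (n := (nat_lit 39)) (b := (nat_lit 79)) h rb40 rfl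
  have h := zero_lt_add (a := (nat_lit 79)) (n := (nat_lit 37)) (b := (nat_lit 116)) h rb79 rfl
  have h := zero_lt_add (a := (nat_lit 116)) (n := (nat_lit 34)) (b := (nat_lit 150)) h rb116 rfl
  have h := zero_lt_add (a := (nat_lit 150)) (n := (nat_lit 28)) (b := (nat_lit 178)) h rb150 rfl
  have h := zero_lt_add (a := (nat_lit 178)) (n := (nat_lit 18)) (b := (nat_lit 196)) h rb178 rfl
  have h := zero_lt_add (a := (nat_lit 196)) (n := (nat_lit 6)) (b := (nat_lit 202)) h rb196 rfl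
  exact h
theorem h3 : ∀ i < 18, f3 i = 0 := by
  have h := zero_lt_zero f3
  have h := zero_lt_add (a := (nat_lit 0)) (n := (nat_lit 15)) (b := (nat_lit 15)) h rc0 rfl
  have h := zero_lt_add (a := (nat_lit 15)) (n := (nat_lit 3)) (b := (nat_lit 18)) h rc15 rfl
  exact h
theorem h4 : ∀ i < 18, f4 i = 0 := by
  have h := zero_lt_zero f4
  have h := zero_lt_add (a := (nat_lit 0)) (n := (nat_lit 18)) (b := (nat_lit 18)) h rd0 rfl
  exact h
theorem nok : NoK (Cfsg.Spor.Co2) (2 ^ (0 + 1)) := fun _ _ _ _ h =>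
  (md.rv (I := I) (K := 241) rfl ⟨rfl, by decide⟩ (upTo_beq (by decide +kernel)) h1).core h (by norm_num)
    (md.syl (by norm_num) rfl (by decide) h4) (by rw [Co2.card]; decide) (n := 2) (s := 0) (e := e) (L := Le) (C := C)
    ⟨rfl, by decide, rfl, by decide, by decide, rfl, by decide⟩ h2 (upTo_beq (by decide +kernel)) (upTo_beq (by decide +kernel)) h3

end Cfsg.Agent.Ct.Co2s.S2
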