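import Cfsg.Agent.Lib.Cert.Co2s.S2D

set_option autoImplicit false
set_option maxRecDepth 100000

namespace Cfsg.Agent.Ct.Co2s.S2

open Cfsg.Agent.PC

theorem ra0 : Nat.beq (rng f1 (nat_lit 0) (nat_lit 77)) (nat_lit 0) = true := by decide +kernel
theorem ra77 : Nat.beq (rng f1 (nat_lit 77) (nat_lit 56)) (nat_lit 0) = true := by decide +kernel
theorem ra133 : Nat.beq (rng f1 (nat_lit 133) (nat_lit 47)) (nat_lit 0) = true := by decide +kernel
theorem ra180 : Nat.beq (rng f1 (nat_lit 180) (nat_lit 36)) (nat_lit 0) = true := by decide +kernel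
theorem ra216 : Nat.beq (rng f1 (nat_lit 216) (nat_lit 25)) (nat_lit 0) = true := by decide +kernel
theorem rb0 : Nat.beq (rng f2 (nat_lit 0) (nat_lit 40)) (nat_lit 0) = true := by decide +kernel

end Cfsg.Agent.Ct.Co2s.S2
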