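import Cfsg.Agent.Lib.Cert.Co2.M
import Cfsg.Agent.Lib.Cert.Sch2

set_option autoImplicit false
set_option maxRecDepth 100000

namespace Cfsg.Agent.Ct.Co2s.S3

open Cfsg.Agent.PC

open Cfsg.Agent.Fi Cfsg.Agent.Ct
def W_t : TL := (TL.node (TL.node (TL.node (TL.node (TL.leaf []) (TL.leaf [nat_lit 1, nat_lit 0, nat_lit 3, nat_lit 2, nat_lit 3, nat_lit 0, nat_lit 2, nat_lit 1, nat_lit 2, nat_lit 1, nat_lit 0, nat_lit 3, nat_lit 0, nat_lit 3, nat_lit 2, nat_lit 0, nat_lit 2, nat_lit 0, nat_lit 2, nat_lit 0, nat_lit 1, nat_lit 3, nat_lit 1, nat_lit 2, nat_lit 1, nat_lit 0, nat_lit 1, nat_lit 0, nat_lit 3, nat_lit 2, nat_lit 3, nat_lit 0, nat_lit 3, nat_lit 2, nat_lit 1, nat_lit 3, nat_lit 0, nat_lit 3, nat_lit 0, nat_lit 1, nat_lit 2, nat_lit 0, nat_lit 2, nat_lit 3, nat_lit 0, nat_lit 3, nat_lit 0, nat_lit 2, nat_lit 1, nat_lit 3, nat_lit 1, nat_lit 0, nat_lit 1, nat_lit 2, nat_lit 3, nat_lit 0, nat_lit 1, nat_lit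 3, nat_lit 0, nat_lit 1, nat_lit 3, nat_lit 0, nat_lit 1, nat_lit 0, nat_lit 3, nat_lit 1, nat_lit 3, nat_lit 1, nat_lit 0, nat_lit 2, nat_lit 3, nat_lit 2, nat_lit 0, nat_lit 1, nat_lit 3, nat_lit 0, nat_lit 1, nat_lit 0, nat_lit 1, nat_lit 3, nat_lit 1, nat_lit 0, nat_lit 2, nat_lit 1, nat_lit 0, nat_lit 2, nat_lit 0, nat_lit 2, nat_lit 3, nat_lit 2, nat_lit 3, nat_lit 0, nat_lit 1, nat_lit 0, nat_lit 1, nat_lit 2, nat_lit 1, nat_lit 3, nat_lit 0, nat_lit 1, nat_lit 0, nat_lit 3, nat_lit 0, nat_lit 3, nat_lit 1, nat_lit 2, nat_lit 3, nat_lit 0, nat_lit 3, nat_lit 2])) (TL.node (TL.leaf [nat_lit 1, nat_lit 0, nat_lit 3, nat_lit 2, nat_lit 3, nat_lit 0, nat_lit 2, nat_lit 1, nat_lit 2, nat_lit 1, nat_lit 0, nat_lit 3, nat_lit 0, nat_lit 3, nat_lit 2, nat_lit 0, nat_lit 2, nat_lit 0, nat_lit 2, nat_lit 0, nat_lit 1, nat_lit 2, nat_lit 1, nat_lit 3, nat_lit 1, nat_lit 0, nat_lit 3, nat_lit 0, nat_lit 2, nat_lit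 1, nat_lit 2, nat_lit 3, nat_lit 0, nat_lit 2, nat_lit 3, nat_lit 0, nat_lit 2, nat_lit 3, nat_lit 1, nat_lit 2, nat_lit 1, nat_lit 0, nat_lit 3, nat_lit 2, nat_lit 0, nat_lit 1, nat_lit 3, nat_lit 2, nat_lit 3, nat_lit 0, nat_lit 1, nat_lit 0, nat_lit 1, nat_lit 2, nat_lit 0, nat_lit 3, nat_lit 2, nat_lit 0, nat_lit 1, nat_lit 3, nat_lit 1, nat_lit 3, nat_lit 0, nat_lit 1, nat_lit 0, nat_lit 3, nat_lit 0, nat_lit 3, nat_lit 2, nat_lit 3, nat_lit 2, nat_lit 0, nat_lit 1, nat_lit 3, nat_lit 0, nat_lit 3, nat_lit 2, nat_lit 0, nat_lit 1, nat_lit 0, nat_lit 3, nat_lit 0, nat_lit 2, nat_lit 3, nat_lit 1, nat_lit 3, nat_lit 0, nat_lit 2, nat_lit 1, nat_lit 2, nat_lit 1, nat_lit 3, nat_lit 0, nat_lit 1, nat_lit 0, nat_lit 3, nat_lit 1, nat_lit 2, nat_lit 1, nat_lit 3, nat_lit 1, nat_lit 0, nat_lit 3, nat_lit 0, nat_lit 3, nat_lit 2, nat_lit 3, nat_lit 2, nat_lit 0, nat_lit 3, nat_lit 2, nat_lit 3, nat_lit 2, nat_lit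 0, nat_lit 1, nat_lit 0, nat_lit 1, nat_lit 2]) (TL.leaf [nat_lit 1, nat_lit 0, nat_lit 2, nat_lit 1, nat_lit 2, nat_lit 3, nat_lit 1, nat_lit 2, nat_lit 1, nat_lit 3, nat_lit 0, nat_lit 3, nat_lit 2, nat_lit 3, nat_lit 0, nat_lit 2, nat_lit 1, nat_lit 0, nat_lit 1, nat_lit 2, nat_lit 0, nat_lit 1, nat_lit 0, nat_lit 2, nat_lit 3, nat_lit 0, nat_lit 3, nat_lit 0, nat_lit 2, nat_lit 1, nat_lit 3, nat_lit 1, nat_lit 2, nat_lit 1, nat_lit 3, nat_lit 1, nat_lit 0, nat_lit 2, nat_lit 0, nat_lit 2, nat_lit 1, nat_lit 2, nat_lit 3, nat_lit 2, nat_lit 3, nat_lit 2, nat_lit 0, nat_lit 1, nat_lit 0, nat_lit 1, nat_lit 0, nat_lit 3, nat_lit 0, nat_lit 3, nat_lit 1, nat_lit 3, nat_lit 2, nat_lit 1, nat_lit 0, nat_lit 2, nat_lit 1, nat_lit 3, nat_lit 2, nat_lit 3, nat_lit 2, nat_lit 3, nat_lit 2, nat_lit 0, nat_lit 3, nat_lit 2, nat_lit 3, nat_lit 2, nat_lit 3, nat_lit 1, nat_lit 0, nat_lit 1, nat_lit 2, nat_lit 0, nat_lit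 3, nat_lit 0, nat_lit 2, nat_lit 0, nat_lit 1, nat_lit 2, nat_lit 0, nat_lit 2, nat_lit 3, nat_lit 2, nat_lit 1, nat_lit 0, nat_lit 2, nat_lit 0, nat_lit 1, nat_lit 2, nat_lit 0, nat_lit 3, nat_lit 2, nat_lit 0, nat_lit 1, nat_lit 0, nat_lit 2, nat_lit 3, nat_lit 2, nat_lit 3, nat_lit 2, nat_lit 1, nat_lit 2, nat_lit 1, nat_lit 3, nat_lit 2, nat_lit 3, nat_lit 1, nat_lit 3, nat_lit 1, nat_lit 2, nat_lit 0, nat_lit 3]))) (TL.node (TL.node (TL.leaf [nat_lit 0, nat_lit 1, nat_lit 0, nat_lit 3, nat_lit 0, nat_lit 3, nat_lit 1, nat_lit 0, nat_lit 1, nat_lit 2, nat_lit 3, nat_lit 2, nat_lit 3, nat_lit 2, nat_lit 0, nat_lit 1, nat_lit 0, nat_lit 1, nat_lit 0, nat_lit 1, nat_lit 2, nat_lit 0, nat_lit 1, nat_lit 2, nat_lit 3, nat_lit 2, nat_lit 3, nat_lit 2, nat_lit 3, nat_lit 2, nat_lit 0, nat_lit 1, nat_lit 3, nat_lit 2, nat_lit 3, nat_lit 1, nat_lit 3, nat_lit 0, nat_lit 1, nat_lit 3, nat_lit 2, nat_lit 3, nat_lit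 0, nat_lit 1, nat_lit 0, nat_lit 1, nat_lit 2, nat_lit 0, nat_lit 1, nat_lit 3, nat_lit 2, nat_lit 3, nat_lit 0, nat_lit 1, nat_lit 3, nat_lit 1, nat_lit 3, nat_lit 2, nat_lit 1, nat_lit 3, nat_lit 0, nat_lit 2, nat_lit 3, nat_lit 1, nat_lit 2, nat_lit 3, nat_lit 1, nat_lit 3, nat_lit 0, nat_lit 2, nat_lit 3, nat_lit 2, nat_lit 1, nat_lit 0, nat_lit 2, nat_lit 0, nat_lit 1, nat_lit 2, nat_lit 0, nat_lit 3, nat_lit 2, nat_lit 0, nat_lit 2, nat_lit 1, nat_lit 3, nat_lit 0, nat_lit 1, nat_lit 0, nat_lit 3, nat_lit 2, nat_lit 0, nat_lit 1, nat_lit 3, nat_lit 2, nat_lit 1, nat_lit 2, nat_lit 3, nat_lit 1, nat_lit 2, nat_lit 3, nat_lit 2, nat_lit 3, nat_lit 2, nat_lit 3]) (TL.leaf [nat_lit 1, nat_lit 0, nat_lit 3, nat_lit 2, nat_lit 3, nat_lit 0, nat_lit 2, nat_lit 1, nat_lit 2, nat_lit 1, nat_lit 0, nat_lit 3, nat_lit 0, nat_lit 3, nat_lit 2, nat_lit 0, nat_lit 2, nat_lit 0, nat_lit 2, nat_lit 0, nat_lit 1, nat_lit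 2, nat_lit 1, nat_lit 3, nat_lit 2, nat_lit 3, nat_lit 0, nat_lit 3, nat_lit 2, nat_lit 3, nat_lit 0, nat_lit 1, nat_lit 0, nat_lit 1, nat_lit 0, nat_lit 3, nat_lit 0, nat_lit 3, nat_lit 1, nat_lit 2, nat_lit 3, nat_lit 0, nat_lit 3, nat_lit 0, nat_lit 1, nat_lit 0, nat_lit 3, nat_lit 2, nat_lit 3, nat_lit 1, nat_lit 2, nat_lit 1, nat_lit 3, nat_lit 0, nat_lit 1, nat_lit 0, nat_lit 1, nat_lit 2, nat_lit 1, nat_lit 3, nat_lit 1, nat_lit 3, nat_lit 1, nat_lit 2, nat_lit 1, nat_lit 3, nat_lit 1, nat_lit 3, nat_lit 0, nat_lit 1, nat_lit 0, nat_lit 3, nat_lit 1, nat_lit 3, nat_lit 1, nat_lit 2, nat_lit 1, nat_lit 0, nat_lit 2, nat_lit 3, nat_lit 0, nat_lit 3, nat_lit 2, nat_lit 0, nat_lit 3, nat_lit 2, nat_lit 3, nat_lit 2, nat_lit 3, nat_lit 1, nat_lit 0, nat_lit 3, nat_lit 0, nat_lit 2, nat_lit 1, nat_lit 2, nat_lit 1, nat_lit 3, nat_lit 0, nat_lit 2, nat_lit 3, nat_lit 2, nat_lit 0, nat_lit 1, nat_lit 3, nat_lit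 1, nat_lit 2])) (TL.leaf [nat_lit 3, nat_lit 2, nat_lit 0, nat_lit 3, nat_lit 2, nat_lit 0, nat_lit 2, nat_lit 3, nat_lit 0, nat_lit 2, nat_lit 3, nat_lit 1, nat_lit 3, nat_lit 1, nat_lit 0, nat_lit 2, nat_lit 3, nat_lit 2, nat_lit 3, nat_lit 1, nat_lit 0, nat_lit 1, nat_lit 0, nat_lit 2, nat_lit 3, nat_lit 0, nat_lit 3, nat_lit 2, nat_lit 0, nat_lit 2, nat_lit 3, nat_lit 0, nat_lit 1, nat_lit 2, nat_lit 3, nat_lit 0, nat_lit 3, nat_lit 2, nat_lit 1, nat_lit 0, nat_lit 1, nat_lit 2, nat_lit 1, nat_lit 3, nat_lit 2, nat_lit 3, nat_lit 2, nat_lit 3, nat_lit 1, nat_lit 0, nat_lit 3, nat_lit 2, nat_lit 1, nat_lit 2, nat_lit 0, nat_lit 3, nat_lit 1, nat_lit 2, nat_lit 1, nat_lit 3, nat_lit 0, nat_lit 2, nat_lit 1, nat_lit 2, nat_lit 0, nat_lit 3, nat_lit 0, nat_lit 1, nat_lit 3, nat_lit 2, nat_lit 3, nat_lit 0, nat_lit 2, nat_lit 3, nat_lit 1, nat_lit 0, nat_lit 3, nat_lit 0, nat_lit 3, nat_lit 2, nat_lit 3,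 nat_lit 0, nat_lit 3, nat_lit 0, nat_lit 1, nat_lit 3, nat_lit 0, nat_lit 2, nat_lit 3, nat_lit 0, nat_lit 1, nat_lit 0, nat_lit 1, nat_lit 2, nat_lit 1, nat_lit 3, nat_lit 2, nat_lit 0, nat_lit 1, nat_lit 3, nat_lit 0, nat_lit 3, nat_lit 0, nat_lit 1, nat_lit 2, nat_lit 3, nat_lit 1, nat_lit 3, nat_lit 1, nat_lit 0, nat_lit 2, nat_lit 1, nat_lit 0]))) (TL.node (TL.node (TL.node (TL.leaf [nat_lit 0, nat_lit 2, nat_lit 1, nat_lit 0, nat_lit 1, nat_lit 0, nat_lit 2, nat_lit 1, nat_lit 0, nat_lit 2, nat_lit 0, nat_lit 2, nat_lit 1, nat_lit 2, nat_lit 3, nat_lit 2, nat_lit 3, nat_lit 2, nat_lit 3, nat_lit 2, nat_lit 3, nat_lit 1, nat_lit 2, nat_lit 0, nat_lit 2, nat_lit 0, nat_lit 1, nat_lit 2, nat_lit 0, nat_lit 1, nat_lit 0, nat_lit 1, nat_lit 2, nat_lit 0, nat_lit 2, nat_lit 3, nat_lit 1, nat_lit 2, nat_lit 1, nat_lit 0, nat_lit 1, nat_lit 0, nat_lit 3, nat_lit 2, nat_lit 1, nat_lit 0, nat_lit 2, nat_lit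 1, nat_lit 2, nat_lit 3, nat_lit 1, nat_lit 2, nat_lit 1, nat_lit 3, nat_lit 0, nat_lit 3, nat_lit 2, nat_lit 3, nat_lit 0, nat_lit 2, nat_lit 1, nat_lit 2, nat_lit 0, nat_lit 2, nat_lit 3, nat_lit 2, nat_lit 3, nat_lit 2, nat_lit 1, nat_lit 0, nat_lit 2, nat_lit 3, nat_lit 0, nat_lit 3, nat_lit 2, nat_lit 0, nat_lit 2, nat_lit 1, nat_lit 0, nat_lit 2, nat_lit 0, nat_lit 3, nat_lit 0, nat_lit 2, nat_lit 1, nat_lit 0, nat_lit 1, nat_lit 3, nat_lit 2, nat_lit 1, nat_lit 0, nat_lit 3, nat_lit 0, nat_lit 3, nat_lit 2, nat_lit 0, nat_lit 1, nat_lit 0, nat_lit 2, nat_lit 0, nat_lit 2, nat_lit 1, nat_lit 0, nat_lit 1, nat_lit 0, nat_lit 1, nat_lit 2, nat_lit 0, nat_lit 2, nat_lit 3, nat_lit 1, nat_lit 3, nat_lit 2, nat_lit 3, nat_lit 2, nat_lit 3, nat_lit 0, nat_lit 2, nat_lit 1, nat_lit 3, nat_lit 1, nat_lit 3, nat_lit 1, nat_lit 3]) (TL.leaf [nat_lit 0, nat_lit 2, nat_lit 1, nat_lit 0, nat_lit 1, nat_lit 0, nat_lit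 2, nat_lit 1, nat_lit 0, nat_lit 2, nat_lit 0, nat_lit 2, nat_lit 1, nat_lit 2, nat_lit 3, nat_lit 2, nat_lit 3, nat_lit 2, nat_lit 3, nat_lit 2, nat_lit 3, nat_lit 1, nat_lit 2, nat_lit 0, nat_lit 2, nat_lit 0, nat_lit 1, nat_lit 2, nat_lit 0, nat_lit 1, nat_lit 0, nat_lit 1, nat_lit 2, nat_lit 0, nat_lit 1, nat_lit 0, nat_lit 2, nat_lit 1, nat_lit 2, nat_lit 3, nat_lit 1, nat_lit 2, nat_lit 1, nat_lit 3, nat_lit 0, nat_lit 3, nat_lit 2, nat_lit 3, nat_lit 0, nat_lit 2, nat_lit 1, nat_lit 2, nat_lit 0, nat_lit 1, nat_lit 2, nat_lit 3, nat_lit 1, nat_lit 2, nat_lit 1, nat_lit 0, nat_lit 1, nat_lit 0, nat_lit 3, nat_lit 2, nat_lit 3, nat_lit 2, nat_lit 0, nat_lit 1, nat_lit 3, nat_lit 1, nat_lit 3, nat_lit 0, nat_lit 1, nat_lit 0, nat_lit 3, nat_lit 1, nat_lit 0, nat_lit 3, nat_lit 1, nat_lit 2, nat_lit 0, nat_lit 1, nat_lit 3, nat_lit 0, nat_lit 1, nat_lit 0, nat_lit 1, nat_lit 3, nat_lit 1, nat_lit 3, nat_lit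 0, nat_lit 3, nat_lit 2, nat_lit 0, nat_lit 2, nat_lit 1, nat_lit 0, nat_lit 3, nat_lit 2, nat_lit 3, nat_lit 1, nat_lit 0, nat_lit 1, nat_lit 0, nat_lit 3, nat_lit 0, nat_lit 3, nat_lit 1, nat_lit 0])) (TL.node (TL.leaf [nat_lit 0, nat_lit 2, nat_lit 3, nat_lit 0, nat_lit 3, nat_lit 0, nat_lit 2, nat_lit 0, nat_lit 2, nat_lit 0, nat_lit 3, nat_lit 0, nat_lit 1, nat_lit 0, nat_lit 3, nat_lit 0, nat_lit 3, nat_lit 0, nat_lit 3, nat_lit 2, nat_lit 0, nat_lit 2, nat_lit 1, nat_lit 0, nat_lit 3, nat_lit 1, nat_lit 2, nat_lit 1, nat_lit 3, nat_lit 2, nat_lit 0, nat_lit 2, nat_lit 0, nat_lit 1, nat_lit 0, nat_lit 3, nat_lit 2, nat_lit 1, nat_lit 0, nat_lit 1, nat_lit 3, nat_lit 1, nat_lit 0, nat_lit 3, nat_lit 0, nat_lit 3, nat_lit 2, nat_lit 0, nat_lit 2, nat_lit 3, nat_lit 0, nat_lit 1, nat_lit 0, nat_lit 1, nat_lit 2, nat_lit 1, nat_lit 3, nat_lit 2, nat_lit 1, nat_lit 2, nat_lit 3, nat_lit 2, nat_lit 3, nat_lit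 2, nat_lit 1, nat_lit 0, nat_lit 2, nat_lit 0, nat_lit 1, nat_lit 3, nat_lit 2, nat_lit 3, nat_lit 0, nat_lit 2, nat_lit 1, nat_lit 2, nat_lit 0, nat_lit 1, nat_lit 0, nat_lit 1, nat_lit 3, nat_lit 2, nat_lit 3, nat_lit 1, nat_lit 2, nat_lit 1, nat_lit 3, nat_lit 1, nat_lit 2, nat_lit 0]) (TL.leaf [nat_lit 0, nat_lit 1, nat_lit 3, nat_lit 2, nat_lit 1, nat_lit 2, nat_lit 0, nat_lit 3, nat_lit 0, nat_lit 1, nat_lit 0, nat_lit 1, nat_lit 2, nat_lit 1, nat_lit 2, nat_lit 0, nat_lit 1, nat_lit 0, nat_lit 2, nat_lit 3, nat_lit 0, nat_lit 3, nat_lit 1, nat_lit 3, nat_lit 2, nat_lit 1, nat_lit 2, nat_lit 3, nat_lit 1, nat_lit 3, nat_lit 2, nat_lit 1, nat_lit 0, nat_lit 3, nat_lit 0, nat_lit 2, nat_lit 3, nat_lit 1, nat_lit 3, nat_lit 2, nat_lit 0, nat_lit 3, nat_lit 0, nat_lit 1, nat_lit 3, nat_lit 0, nat_lit 1, nat_lit 2, nat_lit 1, nat_lit 2, nat_lit 3, nat_lit 1, nat_lit 2, nat_lit 1, nat_lit 3, nat_lit 1, nat_lit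 2, nat_lit 1, nat_lit 3, nat_lit 1, nat_lit 2, nat_lit 1, nat_lit 3, nat_lit 2, nat_lit 1, nat_lit 3, nat_lit 1, nat_lit 2, nat_lit 1, nat_lit 3, nat_lit 2, nat_lit 1, nat_lit 2, nat_lit 1, nat_lit 2, nat_lit 3, nat_lit 0, nat_lit 1, nat_lit 0, nat_lit 1, nat_lit 3, nat_lit 2, nat_lit 1, nat_lit 0, nat_lit 1, nat_lit 2, nat_lit 3, nat_lit 1, nat_lit 3, nat_lit 2, nat_lit 0, nat_lit 1, nat_lit 0, nat_lit 3, nat_lit 0, nat_lit 3, nat_lit 1, nat_lit 3, nat_lit 1, nat_lit 2, nat_lit 3, nat_lit 1, nat_lit 0, nat_lit 2, nat_lit 0, nat_lit 1, nat_lit 0]))) (TL.node (TL.node (TL.leaf [nat_lit 2, nat_lit 3, nat_lit 1, nat_lit 2, nat_lit 1, nat_lit 0, nat_lit 1, nat_lit 0, nat_lit 3, nat_lit 2, nat_lit 3, nat_lit 1, nat_lit 0, nat_lit 1, nat_lit 2, nat_lit 0, nat_lit 1, nat_lit 2, nat_lit 1, nat_lit 3, nat_lit 2, nat_lit 1, nat_lit 0, nat_lit 3, nat_lit 1, nat_lit 2, nat_lit 1, nat_lit 3, nat_lit 1, nat_lit 2, nat_lit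 1, nat_lit 2, nat_lit 1, nat_lit 0, nat_lit 1, nat_lit 2, nat_lit 0, nat_lit 1, nat_lit 0, nat_lit 3, nat_lit 0, nat_lit 3, nat_lit 2, nat_lit 0, nat_lit 3, nat_lit 1, nat_lit 3, nat_lit 2, nat_lit 1, nat_lit 3, nat_lit 0, nat_lit 2, nat_lit 3, nat_lit 1, nat_lit 2, nat_lit 3, nat_lit 1, nat_lit 3, nat_lit 2, nat_lit 1, nat_lit 3, nat_lit 1, nat_lit 2, nat_lit 1, nat_lit 3, nat_lit 2, nat_lit 1, nat_lit 3, nat_lit 1, nat_lit 0, nat_lit 1, nat_lit 2, nat_lit 3, nat_lit 0, nat_lit 2, nat_lit 3, nat_lit 2, nat_lit 1, nat_lit 3, nat_lit 2, nat_lit 3, nat_lit 2, nat_lit 3, nat_lit 0, nat_lit 1, nat_lit 0, nat_lit 3]) (TL.leaf [nat_lit 1, nat_lit 0, nat_lit 3, nat_lit 2, nat_lit 3, nat_lit 1, nat_lit 2, nat_lit 3, nat_lit 0, nat_lit 1, nat_lit 0, nat_lit 3, nat_lit 0, nat_lit 2, nat_lit 0, nat_lit 2, nat_lit 1, nat_lit 3, nat_lit 2, nat_lit 3, nat_lit 0, nat_lit 1, nat_lit 2, nat_lit 3, nat_lit 1, nat_lit 2, nat_lit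 1, nat_lit 0, nat_lit 1, nat_lit 0, nat_lit 1, nat_lit 3, nat_lit 2, nat_lit 1, nat_lit 0, nat_lit 1, nat_lit 2, nat_lit 3, nat_lit 2, nat_lit 1, nat_lit 3, nat_lit 2, nat_lit 3, nat_lit 1, nat_lit 3, nat_lit 2, nat_lit 1, nat_lit 3, nat_lit 0, nat_lit 2, nat_lit 3, nat_lit 1, nat_lit 2, nat_lit 3, nat_lit 1, nat_lit 3, nat_lit 0, nat_lit 3, nat_lit 0, nat_lit 3, nat_lit 2, nat_lit 0, nat_lit 1, nat_lit 0, nat_lit 2, nat_lit 0, nat_lit 2, nat_lit 1, nat_lit 3, nat_lit 2, nat_lit 3, nat_lit 1, nat_lit 0, nat_lit 3, nat_lit 1, nat_lit 3, nat_lit 2, nat_lit 3, nat_lit 0, nat_lit 2, nat_lit 0, nat_lit 1, nat_lit 0, nat_lit 1, nat_lit 0, nat_lit 3, nat_lit 0, nat_lit 2])) (TL.leaf [nat_lit 2, nat_lit 3, nat_lit 0, nat_lit 1, nat_lit 0, nat_lit 3, nat_lit 1, nat_lit 2, nat_lit 1, nat_lit 2, nat_lit 3, nat_lit 2, nat_lit 3, nat_lit 1, nat_lit 2, nat_lit 1, nat_lit 0, nat_lit 3, nat_lit 1, nat_lit 2, nat_lit 0,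 nat_lit 1, nat_lit 0, nat_lit 2, nat_lit 1, nat_lit 3, nat_lit 2, nat_lit 3, nat_lit 0, nat_lit 3, nat_lit 2, nat_lit 1, nat_lit 3, nat_lit 2, nat_lit 1, nat_lit 2, nat_lit 3, nat_lit 1, nat_lit 0, nat_lit 1, nat_lit 0, nat_lit 3, nat_lit 2, nat_lit 3, nat_lit 2, nat_lit 1, nat_lit 2, nat_lit 0, nat_lit 1, nat_lit 0, nat_lit 3, nat_lit 1, nat_lit 2, nat_lit 3, nat_lit 1, nat_lit 2, nat_lit 0, nat_lit 2, nat_lit 3, nat_lit 1, nat_lit 0, nat_lit 1]))))
noncomputable def W (i : ℕ) : List ℕ := TL.get W_t i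
def B : List ℕ := [nat_lit 0, nat_lit 1, nat_lit 2, nat_lit 3, nat_lit 4, nat_lit 5]
noncomputable def q (j : ℕ) : Cfsg.Spor.Co2 := ev Co2.al (W j)
noncomputable def Q (j : ℕ) : ℕ → ℕ := trF Co2.T (W j)
theorem md : Md Co2.pt 4600 B q Q 14 := (Co2.md0).words' (by decide +kernel)
def I (i : ℕ) : ℕ := Nat.land (Nat.shiftRight (nat_lit 0x1605c180641a06c000000000000000000000000000000000000000000000000000000000000000000000000000000000000000000000000000000000000000000000000000000000000000000000000015000000000000000000000000000000000000000000000000000000000000000000000000000000000000000000000000000000000000000000000000000000000000000000000000000000000000001403c00000000000000000000000000000000000000000000000000000000000000000000000000000000000000000000000000000000000000000000000000000000000000000000000000000000000130380a00000000000000000000000000000000000000000000000000000000000000000000000000000000000000000000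0000000000000000000000000000000000000000000000000000000000000120340901800000000000000000000000000000000000000000000000000000000000000000000000000000000000000000000000000000000000000000000000000000000000000000000000000000011030080140300000000000000000000000000000000000000000000000000000000000000000000000000000000000000000000000000000000000000000000000000000000000000000000000000001002c0701002004000000000000000000000000000000000000000000000000000000000000000000000000000000000000000000000000000000000000000000000000000000000000000000000000000000000000000000) (Nat.mul (nat_lit 10) i)) (nat_lit 1023)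
def Ru_t1 : TN := (TN.node (TN.node (TN.node (TN.node (TN.leaf (nat_lit 0)) (TN.leaf (nat_lit 0x46000000000046082))) (TN.node (TN.leaf (nat_lit 0x84000000000084082)) (TN.leaf (nat_lit 0x70421041451860000000001c4242)))) (TN.node (TN.node (TN.leaf (nat_lit 0x43000000000043082)) (TN.leaf (nat_lit 0x41082146000000000146182))) (TN.leaf (nat_lit 0x10850000000000850c2)))) (TN.node (TN.node (TN.node (TN.leaf (nat_lit 0x42000000000042082)) (TN.leaf (nat_lit 0xc60000000000c6082))) (TN.node (TN.leaf (nat_lit 0x41000000004104083)) (TN.leaf (nat_lit 0x1c10420c30000000001c2182)))) (TN.node (TN.node (TN.leaf (nat_lit 0x30c3003)) (TN.leaf (nat_lit 0x1c10831041460000000001c6202))) (TN.leaf (nat_lit 0x42083105000000000105182)))))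
def Ru_t2 : TN := (TN.node (TN.node (TN.node (TN.node (TN.leaf (nat_lit 0x1041003)) (TN.leaf (nat_lit 0x10860000000000860c2))) (TN.node (TN.leaf (nat_lit 0x410c40000000000c4102)) (TN.leaf (nat_lit 0x70830000000001c30c2)))) (TN.node (TN.node (TN.leaf (nat_lit 0x83000000000083082)) (TN.leaf (nat_lit 0x41000000006186083))) (TN.leaf (nat_lit 0xc50000000000c5082)))) (TN.node (TN.node (TN.node (TN.leaf (nat_lit 0x2082003)) (TN.leaf (nat_lit 0x410820c3106000000000106202))) (TN.node (TN.leaf (nat_lit 0x45000000000045082)) (TN.leaf (nat_lit 0x1c10000000001c1082)))) (TN.node (TN.node (TN.leaf (nat_lit 0x44000000000044082)) (TN.leaf (nat_lit 0x1c10831041860000000001c5202))) (TN.leaf (nat_lit 0x1000000005145043)))))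
def Ru_t : TN := (TN.node Ru_t1 Ru_t2)
noncomputable def Ru (i : ℕ) : ℕ := TN.get Ru_t i
def D_t1 : TN := (TN.node (TN.node (TN.node (TN.node (TN.leaf (nat_lit 0x10000000000000000000000000000000000000000000000000000000000000000000000000000000000000001)) (TN.leaf (nat_lit 0x1000000000000000000000000000000000000000000000000000000000000000000000000000000010000000100000001000000000000000000000000000000010000000200000000000000020000000100000001000000000000000200000001000000010000000000000011))) (TN.leaf (nat_lit 0x2000000000000000000000000000000000000000200000009))) (TN.node (TN.node (TN.leaf (nat_lit 0x1000000000000000000000005)) (TN.leaf (nat_lit 0x1000000010000000100000000000000000000000000000000000000000000000000000000000000020000000000000000000000010000000200000002000000000000000000000001000000010000000100000002000000010000000100000002000000010000000100000015))) (TN.leaf (nat_lit 0x200000000000000000000000000000000000000000000000000000000000000000000000200000000000000020000000000000000000000020000000100000000000000000000000100000002000000000000000000000002000000020000000000000001000000000000000d))))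 (TN.node (TN.node (TN.node (TN.leaf (nat_lit 0x200000000000000000000000000000000000000000000000000000003)) (TN.leaf (nat_lit 0x1000000000000000000000000000000000000000000000002000000000000000000000000000000000000000000000002000000000000000000000001000000010000000100000000000000010000000000000000000000020000000000000001000000000000000000000013))) (TN.leaf (nat_lit 0x200000002000000010000000000000000000000020000000000000000000000000000000200000002000000000000000000000000000000020000000000000000000000020000000b))) (TN.node (TN.leaf (nat_lit 0x200000007)) (TN.leaf (nat_lit 0x100000002000000010000000000000000000000010000000100000001000000000000000000000002000000020000000000000001000000000000000000000000000000000000000f)))))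
def D_t2 : TN := (TN.node (TN.node (TN.node (TN.node (TN.leaf (nat_lit 0x100000000000000000000000000000002)) (TN.leaf (nat_lit 0x1000000010000000000000000000000000000000000000000000000000000000100000001000000020000000000000000000000020000000200000002000000010000000000000001000000020000000000000001000000010000000200000001000000020000000000000012))) (TN.leaf (nat_lit 0x1000000000000000000000000000000010000000100000001000000000000000200000002000000000000000000000000000000020000000000000000000000020000000a))) (TN.node (TN.leaf (nat_lit 0x20000000000000006)) (TN.leaf (nat_lit 0x200000000000000000000000000000000000000000000000000000000000000000000000100000002000000020000000000000000000000000000000200000000000000000000000100000002000000000000000000000002000000020000000000000001000000000000000e)))) (TN.node (TN.node (TN.node (TN.leaf (nat_lit 0x200000000000000000000000000000000000000000000000000000000000000000000000000000000000000000000000000000000000000000000000000000004))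 (TN.leaf (nat_lit 0x2000000010000000200000000000000000000000000000000000000010000000000000001000000010000000000000000000000010000000100000000000000020000000000000000000000000000000200000000000000000000000200000002000000010000000000000014))) (TN.leaf (nat_lit 0x100000000000000000000000000000000000000000000000000000000000000000000000200000002000000010000000000000000000000020000000200000002000000000000000100000002000000010000000000000002000000020000000000000002000000020000000c))) (TN.node (TN.leaf (nat_lit 0x10000000200000000000000020000000000000008)) (TN.leaf (nat_lit 0x2000000000000000000000000000000000000000000000002000000000000000000000001000000010000000000000002000000000000000000000000000000000000000200000002000000020000000100000002000000000000000100000002000000020000000200000010)))))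
def D_t : TN := (TN.node D_t1 D_t2)
noncomputable def D (i : ℕ) : ℕ := TN.get D_t i
def La_t1 : TN := (TN.node (TN.node (TN.node (TN.node (TN.leaf (nat_lit 0x1000000000000)) (TN.leaf (nat_lit 2))) (TN.leaf (nat_lit 512))) (TN.node (TN.node (TN.leaf (nat_lit 0x10000000000)) (TN.leaf (nat_lit 0x1000000))) (TN.leaf (nat_lit 65536)))) (TN.node (TN.node (TN.node (TN.leaf (nat_lit 0)) (TN.leaf (nat_lit 0))) (TN.leaf (nat_lit 0))) (TN.node (TN.node (TN.leaf (nat_lit 0)) (TN.leaf (nat_lit 0))) (TN.leaf (nat_lit 0)))))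
def La_t2 : TN := (TN.node (TN.node (TN.node (TN.node (TN.leaf (nat_lit 0)) (TN.leaf (nat_lit 0))) (TN.leaf (nat_lit 0))) (TN.node (TN.node (TN.leaf (nat_lit 0)) (TN.leaf (nat_lit 0))) (TN.leaf (nat_lit 0)))) (TN.node (TN.node (TN.node (TN.leaf (nat_lit 0)) (TN.leaf (nat_lit 0))) (TN.leaf (nat_lit 0))) (TN.node (TN.node (TN.leaf (nat_lit 0)) (TN.leaf (nat_lit 0))) (TN.leaf (nat_lit 0)))))
def La_t3 : TN := (TN.node La_t1 La_t2)
def La_t4 : TN := (TN.node (TN.node (TN.node (TN.node (TN.leaf (nat_lit 0)) (TN.leaf (nat_lit 0x1000202010200010101000001010200010202))) (TN.leaf (nat_lit 0))) (TN.node (TN.node (TN.leaf (nat_lit 0)) (TN.leaf (nat_lit 0x20200020000010201010202000200020201000001))) (TN.leaf (nat_lit 0)))) (TN.node (TN.node (TN.node (TN.leaf (nat_lit 0)) (TN.leaf (nat_lit 0))) (TN.leaf (nat_lit 0))) (TN.node (TN.node (TN.leaf (nat_lit 0)) (TN.leaf (nat_lit 0))) (TN.leaf (nat_lit 0)))))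
def La_t5 : TN := (TN.node (TN.node (TN.node (TN.node (TN.leaf (nat_lit 0)) (TN.leaf (nat_lit 0))) (TN.leaf (nat_lit 0))) (TN.node (TN.node (TN.leaf (nat_lit 0)) (TN.leaf (nat_lit 0))) (TN.leaf (nat_lit 0)))) (TN.node (TN.node (TN.node (TN.leaf (nat_lit 0)) (TN.leaf (nat_lit 0))) (TN.leaf (nat_lit 0))) (TN.node (TN.node (TN.leaf (nat_lit 0)) (TN.leaf (nat_lit 0))) (TN.leaf (nat_lit 0)))))
def La_t6 : TN := (TN.node La_t4 La_t5)
def La_t7 : TN := (TN.node La_t3 La_t6)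
def La_t8 : TN := (TN.node (TN.node (TN.node (TN.node (TN.leaf (nat_lit 0)) (TN.leaf (nat_lit 0x20100010200000000000001020102))) (TN.leaf (nat_lit 0x10002000000000000))) (TN.node (TN.node (TN.leaf (nat_lit 0)) (TN.leaf (nat_lit 0x20001010101000000000000020101))) (TN.leaf (nat_lit 0)))) (TN.node (TN.node (TN.node (TN.leaf (nat_lit 0)) (TN.leaf (nat_lit 0))) (TN.leaf (nat_lit 0))) (TN.node (TN.node (TN.leaf (nat_lit 0)) (TN.leaf (nat_lit 0))) (TN.leaf (nat_lit 0)))))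
def La_t9 : TN := (TN.node (TN.node (TN.node (TN.node (TN.leaf (nat_lit 0)) (TN.leaf (nat_lit 0))) (TN.leaf (nat_lit 0))) (TN.node (TN.node (TN.leaf (nat_lit 0)) (TN.leaf (nat_lit 0))) (TN.leaf (nat_lit 0)))) (TN.node (TN.node (TN.node (TN.leaf (nat_lit 0)) (TN.leaf (nat_lit 0))) (TN.leaf (nat_lit 0))) (TN.node (TN.node (TN.leaf (nat_lit 0)) (TN.leaf (nat_lit 0))) (TN.leaf (nat_lit 0)))))
def La_t10 : TN := (TN.node La_t8 La_t9)
def La_t11 : TN := (TN.node (TN.node (TN.node (TN.node (TN.leaf (nat_lit 0)) (TN.leaf (nat_lit 0))) (TN.leaf (nat_lit 0))) (TN.node (TN.node (TN.leaf (nat_lit 0)) (TN.leaf (nat_lit 0))) (TN.leaf (nat_lit 0)))) (TN.node (TN.node (TN.node (TN.leaf (nat_lit 0)) (TN.leaf (nat_lit 0))) (TN.leaf (nat_lit 0))) (TN.node (TN.node (TN.leaf (nat_lit 0)) (TN.leaf (nat_lit 0))) (TN.leaf (nat_lit 0)))))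
def La_t12 : TN := (TN.node (TN.node (TN.node (TN.node (TN.leaf (nat_lit 0)) (TN.leaf (nat_lit 0))) (TN.leaf (nat_lit 0))) (TN.node (TN.node (TN.leaf (nat_lit 0)) (TN.leaf (nat_lit 0))) (TN.leaf (nat_lit 0)))) (TN.node (TN.node (TN.node (TN.leaf (nat_lit 0)) (TN.leaf (nat_lit 0))) (TN.leaf (nat_lit 0))) (TN.node (TN.node (TN.leaf (nat_lit 0)) (TN.leaf (nat_lit 0))) (TN.leaf (nat_lit 0)))))
def La_t13 : TN := (TN.node La_t11 La_t12)
def La_t14 : TN := (TN.node La_t10 La_t13)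
def La_t15 : TN := (TN.node La_t7 La_t14)
def La_t16 : TN := (TN.node (TN.node (TN.node (TN.node (TN.leaf (nat_lit 0)) (TN.leaf (nat_lit 0x101020101000102020001020101))) (TN.leaf (nat_lit 0x200010000000200))) (TN.node (TN.node (TN.leaf (nat_lit 0x200000000)) (TN.leaf (nat_lit 0x2020200000102020002020102))) (TN.leaf (nat_lit 0x20200020202000200010001000101)))) (TN.node (TN.node (TN.node (TN.leaf (nat_lit 0)) (TN.leaf (nat_lit 0))) (TN.leaf (nat_lit 0))) (TN.node (TN.node (TN.leaf (nat_lit 0)) (TN.leaf (nat_lit 0))) (TN.leaf (nat_lit 0)))))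
def La_t17 : TN := (TN.node (TN.node (TN.node (TN.node (TN.leaf (nat_lit 0)) (TN.leaf (nat_lit 0))) (TN.leaf (nat_lit 0))) (TN.node (TN.node (TN.leaf (nat_lit 0)) (TN.leaf (nat_lit 0))) (TN.leaf (nat_lit 0)))) (TN.node (TN.node (TN.node (TN.leaf (nat_lit 0)) (TN.leaf (nat_lit 0))) (TN.leaf (nat_lit 0))) (TN.node (TN.node (TN.leaf (nat_lit 0)) (TN.leaf (nat_lit 0))) (TN.leaf (nat_lit 0)))))
def La_t18 : TN := (TN.node La_t16 La_t17)
def La_t19 : TN := (TN.node (TN.node (TN.node (TN.node (TN.leaf (nat_lit 0)) (TN.leaf (nat_lit 0))) (TN.leaf (nat_lit 0))) (TN.node (TN.node (TN.leaf (nat_lit 0)) (TN.leaf (nat_lit 0x1000100000002000100010001000100010101))) (TN.leaf (nat_lit 0)))) (TN.node (TN.node (TN.node (TN.leaf (nat_lit 0)) (TN.leaf (nat_lit 0))) (TN.leaf (nat_lit 0))) (TN.node (TN.node (TN.leaf (nat_lit 0)) (TN.leaf (nat_lit 0))) (TN.leaf (nat_lit 0)))))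
def La_t20 : TN := (TN.node (TN.node (TN.node (TN.node (TN.leaf (nat_lit 0)) (TN.leaf (nat_lit 0))) (TN.leaf (nat_lit 0))) (TN.node (TN.node (TN.leaf (nat_lit 0)) (TN.leaf (nat_lit 0))) (TN.leaf (nat_lit 0)))) (TN.node (TN.node (TN.node (TN.leaf (nat_lit 0)) (TN.leaf (nat_lit 0))) (TN.leaf (nat_lit 0))) (TN.node (TN.node (TN.leaf (nat_lit 0)) (TN.leaf (nat_lit 0))) (TN.leaf (nat_lit 0)))))
def La_t21 : TN := (TN.node La_t19 La_t20)
def La_t22 : TN := (TN.node La_t18 La_t21)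
def La_t23 : TN := (TN.node (TN.node (TN.node (TN.node (TN.leaf (nat_lit 0)) (TN.leaf (nat_lit 0))) (TN.leaf (nat_lit 0))) (TN.node (TN.node (TN.leaf (nat_lit 0)) (TN.leaf (nat_lit 0))) (TN.leaf (nat_lit 0x1000002020100020000010201010100020002)))) (TN.node (TN.node (TN.node (TN.leaf (nat_lit 0)) (TN.leaf (nat_lit 0))) (TN.leaf (nat_lit 0))) (TN.node (TN.node (TN.leaf (nat_lit 0)) (TN.leaf (nat_lit 0))) (TN.leaf (nat_lit 0)))))
def La_t24 : TN := (TN.node (TN.node (TN.node (TN.node (TN.leaf (nat_lit 0)) (TN.leaf (nat_lit 0))) (TN.leaf (nat_lit 0))) (TN.node (TN.node (TN.leaf (nat_lit 0)) (TN.leaf (nat_lit 0))) (TN.leaf (nat_lit 0)))) (TN.node (TN.node (TN.node (TN.leaf (nat_lit 0)) (TN.leaf (nat_lit 0))) (TN.leaf (nat_lit 0))) (TN.node (TN.node (TN.leaf (nat_lit 0)) (TN.leaf (nat_lit 0))) (TN.leaf (nat_lit 0)))))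
def La_t25 : TN := (TN.node La_t23 La_t24)
def La_t26 : TN := (TN.node (TN.node (TN.node (TN.node (TN.leaf (nat_lit 0)) (TN.leaf (nat_lit 0))) (TN.leaf (nat_lit 0))) (TN.node (TN.node (TN.leaf (nat_lit 0)) (TN.leaf (nat_lit 0))) (TN.leaf (nat_lit 0)))) (TN.node (TN.node (TN.node (TN.leaf (nat_lit 0)) (TN.leaf (nat_lit 0))) (TN.leaf (nat_lit 0))) (TN.node (TN.node (TN.leaf (nat_lit 0)) (TN.leaf (nat_lit 0))) (TN.leaf (nat_lit 0)))))
def La_t27 : TN := (TN.node (TN.node (TN.node (TN.node (TN.leaf (nat_lit 0)) (TN.leaf (nat_lit 0))) (TN.leaf (nat_lit 0))) (TN.node (TN.node (TN.leaf (nat_lit 0)) (TN.leaf (nat_lit 0))) (TN.leaf (nat_lit 0)))) (TN.node (TN.node (TN.node (TN.leaf (nat_lit 0)) (TN.leaf (nat_lit 0))) (TN.leaf (nat_lit 0))) (TN.node (TN.node (TN.leaf (nat_lit 0)) (TN.leaf (nat_lit 0))) (TN.leaf (nat_lit 0)))))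
def La_t28 : TN := (TN.node La_t26 La_t27)
def La_t29 : TN := (TN.node La_t25 La_t28)
def La_t30 : TN := (TN.node La_t22 La_t29)
def La_t : TN := (TN.node La_t15 La_t30)
noncomputable def La (i : ℕ) : ℕ := TN.get La_t i
def Le_t : TN := (TN.leaf (nat_lit 0))
noncomputable def Le (i : ℕ) : ℕ := TN.get Le_t i
def C_t1 : TN := (TN.node (TN.node (TN.node (TN.node (TN.leaf (nat_lit 0)) (TN.leaf (nat_lit 0))) (TN.node (TN.leaf (nat_lit 0)) (TN.leaf (nat_lit 0)))) (TN.node (TN.node (TN.leaf (nat_lit 0)) (TN.leaf (nat_lit 0))) (TN.node (TN.leaf (nat_lit 0)) (TN.leaf (nat_lit 0))))) (TN.node (TN.node (TN.node (TN.leaf (nat_lit 0)) (TN.leaf (nat_lit 0))) (TN.node (TN.leaf (nat_lit 0)) (TN.leaf (nat_lit 0)))) (TN.node (TN.node (TN.leaf (nat_lit 0)) (TN.leaf (nat_lit 0))) (TN.node (TN.leaf (nat_lit 0)) (TN.leaf (nat_lit 0))))))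
def C_t2 : TN := (TN.node (TN.node (TN.node (TN.node (TN.leaf (nat_lit 0x100000000000000000000000000000000000000010000000000000000000000000000000000000000000000000000000000000000000000000000000000000000000000000000000000000000)) (TN.leaf (nat_lit 0))) (TN.node (TN.leaf (nat_lit 0)) (TN.leaf (nat_lit 0)))) (TN.node (TN.node (TN.leaf (nat_lit 0)) (TN.leaf (nat_lit 0))) (TN.node (TN.leaf (nat_lit 0)) (TN.leaf (nat_lit 0))))) (TN.node (TN.node (TN.node (TN.leaf (nat_lit 0)) (TN.leaf (nat_lit 0))) (TN.node (TN.leaf (nat_lit 0)) (TN.leaf (nat_lit 0)))) (TN.node (TN.node (TN.leaf (nat_lit 0)) (TN.leaf (nat_lit 0))) (TN.node (TN.leaf (nat_lit 0)) (TN.leaf (nat_lit 0))))))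
def C_t3 : TN := (TN.node C_t1 C_t2)
def C_t4 : TN := (TN.node (TN.node (TN.node (TN.node (TN.leaf (nat_lit 0x2000000000000000000000000000000000000000000000000000000000000000000000000)) (TN.leaf (nat_lit 0))) (TN.node (TN.leaf (nat_lit 0)) (TN.leaf (nat_lit 0)))) (TN.node (TN.node (TN.leaf (nat_lit 0)) (TN.leaf (nat_lit 0))) (TN.node (TN.leaf (nat_lit 0)) (TN.leaf (nat_lit 0))))) (TN.node (TN.node (TN.node (TN.leaf (nat_lit 0)) (TN.leaf (nat_lit 0))) (TN.node (TN.leaf (nat_lit 0)) (TN.leaf (nat_lit 0)))) (TN.node (TN.node (TN.leaf (nat_lit 0)) (TN.leaf (nat_lit 0))) (TN.node (TN.leaf (nat_lit 0)) (TN.leaf (nat_lit 0))))))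
def C_t5 : TN := (TN.node (TN.node (TN.node (TN.node (TN.leaf (nat_lit 0x100000000000000000000000000000000000000020000000000000000000000000000000000000001000000000000000000000000000000000000000000000000000000000000000000000000)) (TN.leaf (nat_lit 0))) (TN.node (TN.leaf (nat_lit 0)) (TN.leaf (nat_lit 0)))) (TN.node (TN.node (TN.leaf (nat_lit 0)) (TN.leaf (nat_lit 0))) (TN.node (TN.leaf (nat_lit 0)) (TN.leaf (nat_lit 0))))) (TN.node (TN.node (TN.node (TN.leaf (nat_lit 0)) (TN.leaf (nat_lit 0))) (TN.node (TN.leaf (nat_lit 0)) (TN.leaf (nat_lit 0)))) (TN.node (TN.node (TN.leaf (nat_lit 0)) (TN.leaf (nat_lit 0))) (TN.node (TN.leaf (nat_lit 0)) (TN.leaf (nat_lit 0))))))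
def C_t6 : TN := (TN.node C_t4 C_t5)
def C_t : TN := (TN.node C_t3 C_t6)
noncomputable def C (i : ℕ) : ℕ := TN.get C_t i
def e (i : ℕ) : ℕ := Nat.land (Nat.shiftRight (nat_lit 0) (Nat.mul (nat_lit 1) i)) (nat_lit 1)
def U_t : TL := (TL.node (TL.node (TL.node (TL.node (TL.node (TL.leaf [nat_lit 5]) (TL.leaf [nat_lit 7])) (TL.leaf [nat_lit 7])) (TL.node (TL.node (TL.leaf [nat_lit 7]) (TL.leaf [nat_lit 7])) (TL.leaf [nat_lit 7]))) (TL.node (TL.node (TL.node (TL.leaf [nat_lit 4]) (TL.leaf [nat_lit 7])) (TL.leaf [nat_lit 7])) (TL.node (TL.leaf [nat_lit 2, nat_lit 2]) (TL.leaf [nat_lit 4])))) (TL.node (TL.node (TL.node (TL.node (TL.leaf [nat_lit 3]) (TL.leaf [nat_lit 7])) (TL.leaf [nat_lit 7])) (TL.node (TL.leaf [nat_lit 2]) (TL.leaf [nat_lit 7]))) (TL.node (TL.node (TL.node (TL.leaf [nat_lit 6]) (TL.leaf [nat_lit 7])) (TL.leaf [nat_lit 7])) (TL.node (TL.leaf [nat_lit 7]) (TL.leaf [nat_lit 7])))))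
noncomputable def U (i : ℕ) : List ℕ := TL.get U_t i
def V1_t : TL := (TL.node (TL.node (TL.node (TL.node (TL.node (TL.leaf [nat_lit 5, nat_lit 5, nat_lit 5]) (TL.leaf [nat_lit 6, nat_lit 6, nat_lit 6])) (TL.leaf [nat_lit 2, nat_lit 2, nat_lit 2])) (TL.node (TL.node (TL.leaf [nat_lit 3, nat_lit 3, nat_lit 3]) (TL.leaf [nat_lit 4, nat_lit 6])) (TL.leaf [nat_lit 2, nat_lit 6]))) (TL.node (TL.node (TL.node (TL.leaf [nat_lit 4, nat_lit 4, nat_lit 4]) (TL.leaf [nat_lit 4, nat_lit 4, nat_lit 4])) (TL.leaf [nat_lit 3, nat_lit 5])) (TL.node (TL.leaf [nat_lit 2, nat_lit 5]) (TL.leaf [nat_lit 5, nat_lit 6])))) (TL.node (TL.node (TL.node (TL.node (TL.leaf [nat_lit 5, nat_lit 5, nat_lit 5]) (TL.leaf [nat_lit 5, nat_lit 6])) (TL.leaf [nat_lit 3, nat_lit 6])) (TL.node (TL.leaf [nat_lit 4, nat_lit 4, nat_lit 4]) (TL.leaf [nat_lit 2, nat_lit 5]))) (TL.node (TL.node (TL.node (TL.leaf [nat_lit 6, nat_lit 6, nat_lit 6]) (TL.leaf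 [nat_lit 4, nat_lit 5])) (TL.leaf [nat_lit 3, nat_lit 4])) (TL.node (TL.leaf [nat_lit 2, nat_lit 3]) (TL.leaf [nat_lit 5, nat_lit 5, nat_lit 5])))))
noncomputable def V1 (i : ℕ) : List ℕ := TL.get V1_t i
def V2_t : TL := (TL.node (TL.node (TL.node (TL.node (TL.node (TL.leaf [nat_lit 1]) (TL.leaf [nat_lit 1, nat_lit 1])) (TL.leaf [])) (TL.node (TL.node (TL.leaf []) (TL.leaf [nat_lit 6, nat_lit 4, nat_lit 3, nat_lit 3, nat_lit 2, nat_lit 2, nat_lit 1, nat_lit 1])) (TL.leaf [nat_lit 6, nat_lit 2, nat_lit 1]))) (TL.node (TL.node (TL.node (TL.leaf [nat_lit 1, nat_lit 1]) (TL.leaf [nat_lit 1, nat_lit 1])) (TL.leaf [nat_lit 5, nat_lit 3])) (TL.node (TL.leaf [nat_lit 5, nat_lit 2, nat_lit 1]) (TL.leaf [nat_lit 6, nat_lit 5, nat_lit 2, nat_lit 2, nat_lit 1, nat_lit 1])))) (TL.node (TL.node (TL.node (TL.node (TL.leaf [nat_lit 1]) (TL.leaf [nat_lit 6, nat_lit 5, nat_lit 2, nat_lit 2, nat_lit 1, nat_lit 1])) (TL.leaf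 [nat_lit 6, nat_lit 3])) (TL.node (TL.leaf [nat_lit 1, nat_lit 1]) (TL.leaf [nat_lit 5, nat_lit 2, nat_lit 1]))) (TL.node (TL.node (TL.node (TL.leaf [nat_lit 1, nat_lit 1]) (TL.leaf [nat_lit 5, nat_lit 4, nat_lit 3, nat_lit 2, nat_lit 2, nat_lit 1])) (TL.leaf [nat_lit 4, nat_lit 3, nat_lit 1, nat_lit 1])) (TL.node (TL.leaf [nat_lit 3, nat_lit 2]) (TL.leaf [nat_lit 1])))))
noncomputable def V2 (i : ℕ) : List ℕ := TL.get V2_t i
def Y_t : TL := (TL.node (TL.node (TL.node (TL.leaf [nat_lit 6, nat_lit 6, nat_lit 4, nat_lit 3, nat_lit 3, nat_lit 2, nat_lit 2, nat_lit 1, nat_lit 1]) (TL.leaf [nat_lit 6, nat_lit 5, nat_lit 1, nat_lit 1])) (TL.leaf [nat_lit 1, nat_lit 1])) (TL.node (TL.node (TL.leaf [nat_lit 5, nat_lit 4, nat_lit 3, nat_lit 2, nat_lit 1]) (TL.leaf [nat_lit 6, nat_lit 6, nat_lit 2, nat_lit 2])) (TL.leaf [nat_lit 5, nat_lit 5, nat_lit 4, nat_lit 4, nat_lit 3, nat_lit 2])))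
noncomputable def Y (i : ℕ) : List ℕ := TL.get Y_t i
def O_t : TL := (TL.node (TL.node (TL.node (TL.leaf [nat_lit 1]) (TL.leaf [nat_lit 0, nat_lit 3541, nat_lit 3577, nat_lit 4507, nat_lit 2497, nat_lit 107, nat_lit 311, nat_lit 1425, nat_lit 248])) (TL.leaf [nat_lit 0])) (TL.node (TL.node (TL.leaf [nat_lit 32]) (TL.leaf [nat_lit 1151])) (TL.leaf [nat_lit 0, nat_lit 3541, nat_lit 4507])))
noncomputable def O (i : ℕ) : List ℕ := TL.get O_t i
noncomputable def f1 : ℕ → ℕ := rvE Q B (nat_lit 14) Ru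
noncomputable def f2 (j : ℕ) : ℕ := rlE I Ru (nat_lit 28) (nat_lit 3) (U j) (V1 j) (V2 j) (D j)
noncomputable def f3 : ℕ → ℕ := tgR I Ru (nat_lit 28) (nat_lit 3) (nat_lit 3) C D (nat_lit 21) La
noncomputable def f4 : ℕ → ℕ := chE Q B (nat_lit 4600) (nat_lit 14) (nat_lit 6) (nat_lit 8) Y O
theorem ra0 : Nat.beq (rng f1 (nat_lit 0) (nat_lit 28)) (nat_lit 0) = true := by decide +kernel
theorem rb0 : Nat.beq (rng f2 (nat_lit 0) (nat_lit 21)) (nat_lit 0) = true := by decide +kernel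
theorem rc0 : Nat.beq (rng f3 (nat_lit 0) (nat_lit 6)) (nat_lit 0) = true := by decide +kernel
theorem rd0 : Nat.beq (rng f4 (nat_lit 0) (nat_lit 6)) (nat_lit 0) = true := by decide +kernel
theorem h1 : ∀ i < 28, f1 i = 0 := by
  have h := zero_lt_zero f1
  have h := zero_lt_add (a := (nat_lit 0)) (n := (nat_lit 28)) (b := (nat_lit 28)) h ra0 rfl
  exact h
theorem h2 : ∀ i < 21, f2 i = 0 := by
  have h := zero_lt_zero f2
  have h := zero_lt_add (a := (nat_lit 0)) (n := (nat_lit 21)) (b := (nat_lit 21)) h rb0 rfl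
  exact h
theorem h3 : ∀ i < 6, f3 i = 0 := by
  have h := zero_lt_zero f3
  have h := zero_lt_add (a := (nat_lit 0)) (n := (nat_lit 6)) (b := (nat_lit 6)) h rc0 rfl
  exact h
theorem h4 : ∀ i < 6, f4 i = 0 := by
  have h := zero_lt_zero f4
  have h := zero_lt_add (a := (nat_lit 0)) (n := (nat_lit 6)) (b := (nat_lit 6)) h rd0 rfl
  exact h
theorem nok : NoK (Cfsg.Spor.Co2) (3 ^ (0 + 1)) := fun _ _ _ _ h =>
  (md.rv (I := I) (K := 28) rfl ⟨rfl, by decide⟩ (upTo_beq (by decide +kernel)) h1).core h (by norm_num)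
    (md.syl (by norm_num) rfl (by decide) h4) (by rw [Co2.card]; decide) (n := 3) (s := 0) (e := e) (L := Le) (C := C)
    ⟨rfl, by decide, rfl, by decide, by decide, rfl, by decide⟩ h2 (upTo_beq (by decide +kernel)) (upTo_beq (by decide +kernel)) h3

end Cfsg.Agent.Ct.Co2s.S3
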